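import Mathlib
import Groth.Agent.TopDim.Basic

/-!
# Zero-dimensional schemes of finite type over a field
-/

set_option autoImplicit false
set_option backward.isDefEq.respectTransparency false

universe u

open CategoryTheory AlgebraicGeometry TopologicalSpace Opposite

namespace Groth.Agent.DimZeroFT

variable {k : Type u} [Field k] {X : Scheme.{u}} (f : X ⟶ Spec (CommRingCat.of k))
  [LocallyOfFiniteType f] [QuasiCompact f]

include f

theorem isNoetherian : IsNoetherian X :=
  haveI : IsLocallyNoetherian X := LocallyOfFiniteType.isLocallyNoetherian f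
  haveI : CompactSpace X := QuasiCompact.compactSpace_of_compactSpace f
  {}

theorem jacobsonSpace : JacobsonSpace X :=
  LocallyOfFiniteType.jacobsonSpace f

theorem discrete_of_dim_le_zero (h : topologicalKrullDim X ≤ 0) : DiscreteTopology X :=
  haveI := isNoetherian f
  discreteTopology_iff_isOpen_singleton.mpr fun x => Groth.Agent.TopDim.isOpen_singleton_of_dim_le_zero h x

theorem isAffine_and_finite [DiscreteTopology X] : IsAffine X ∧ f.appTop.hom.Finite := by
  haveI := isNoetherian f
  haveI : Finite X := finite_of_compact_of_discrete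
  haveI : IsAffine X := inferInstance
  refine ⟨inferInstance, ?_⟩
  haveI : IsLocallyArtinian X := IsLocallyArtinian.of_isLocallyNoetherian_of_discreteTopology
  have hft : f.appTop.hom.FiniteType := (HasRingHomProperty.iff_of_isAffine (P := @LocallyOfFiniteType) (f := f)).1 ‹_›
  let g : k →+* Γ(X, ⊤) := f.appTop.hom.comp (Scheme.ΓSpecIso (CommRingCat.of k)).inv.hom
  letI : Algebra k Γ(X, ⊤) := g.toAlgebra
  haveI : Algebra.FiniteType k Γ(X, ⊤) :=
    hft.comp (RingHom.FiniteType.of_surjective (Scheme.ΓSpecIso (CommRingCat.of k)).inv.hom (ConcreteCategory.bijective_of_isIso _).2)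
  have hfin : g.Finite := (Module.finite_iff_isArtinianRing k Γ(X, ⊤)).2 inferInstance
  exact hfin.of_comp_finite

omit f in
theorem bijective_germ [DiscreteTopology X] :
    Function.Bijective (fun s : Γ(X, ⊤) => fun x : X => X.presheaf.germ ⊤ x trivial s) := by
  refine ⟨fun s t h => TopCat.Presheaf.section_ext X.sheaf ⊤ s t fun x hx => congrFun h x, fun g => ?_⟩
  choose V hV a ha using fun x : X => TopCat.Presheaf.germ_exist X.presheaf (g x)
  let W : X → X.Opens := fun x => ⟨{x}, isOpen_discrete _⟩
  have hW : ∀ x, W x ≤ V x := fun x y hy => by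
    rw [Set.mem_singleton_iff.1 hy]
    exact hV x
  obtain ⟨s, hs, -⟩ := X.sheaf.existsUnique_gluing' W ⊤ (fun x => homOfLE le_top)
    (fun y _ => Opens.mem_iSup.mpr ⟨y, rfl⟩) (fun x => X.presheaf.map (homOfLE (hW x)).op (a x))
    (fun x y => by
      by_cases hxy : x = y
      · subst hxy; rfl
      · have hbot : W x ⊓ W y = ⊥ := eq_bot_iff.2 fun z hz => hxy (hz.1.symm.trans hz.2)
        have hsub : Subsingleton (X.presheaf.obj (op (W x ⊓ W y))) := by
          rw [hbot]
          exact CommRingCat.subsingleton_of_isTerminal X.sheaf.isTerminalOfEmpty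
        exact hsub.elim _ _)
  refine ⟨s, funext fun x => ?_⟩
  rw [← ha x, ← X.presheaf.germ_res_apply (homOfLE (hW x)) x rfl (a x)]
  exact ((X.presheaf.germ_res_apply (homOfLE (le_top : W x ≤ ⊤)) x rfl s).symm).trans (congrArg _ (hs x))

theorem discrete_of_finite [IsAffine X] (hfin : f.appTop.hom.Finite) : DiscreteTopology X := by
  let g : k →+* Γ(X, ⊤) := f.appTop.hom.comp (Scheme.ΓSpecIso (CommRingCat.of k)).inv.hom
  have hg : g.Finite := hfin.comp (RingHom.Finite.of_surjective _ (ConcreteCategory.bijective_of_isIso _).2)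
  letI : Algebra k Γ(X, ⊤) := g.toAlgebra
  haveI : Module.Finite k Γ(X, ⊤) := hg
  haveI : IsArtinianRing Γ(X, ⊤) := IsArtinianRing.of_finite k _
  haveI : DiscreteTopology (Spec Γ(X, ⊤)) := inferInstanceAs (DiscreteTopology (PrimeSpectrum _))
  exact X.isoSpec.hom.homeomorph.symm.discreteTopology

end Groth.Agent.DimZeroFT
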